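import Mathlib

open Filter Topology

namespace Helper5.Mult

universe u
variable {R : Type u} [CommRing R]

/-- A submodule spanned by finitely many elements each killed by `I` has length at most
`card * length (R/I)`. -/
lemma length_span_le {N : Type*} [AddCommGroup N] [Module R N] (I : Ideal R) {ι : Type*} [Fintype ι]
    (x : ι → N) (hx : ∀ a ∈ I, ∀ i, a • x i = 0) :
    Module.length R (Submodule.span R (Set.range x)) ≤
      (Fintype.card ι : ℕ∞) * Module.length R (R ⧸ I) := by
  classical
  let φi : ∀ i, (R ⧸ I) →ₗ[R] N := fun i =>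
    Submodule.liftQ I (LinearMap.toSpanSingleton R N (x i)) (by
      intro a ha
      simp [LinearMap.mem_ker, hx a ha i])
  let φ : (ι → R ⧸ I) →ₗ[R] N := LinearMap.lsum R (fun _ => R ⧸ I) R φi
  have hφ : ∀ v, φ v = ∑ i, φi i (v i) := fun v => by
    simp [φ, LinearMap.lsum_apply]
  have hφi : ∀ i (r : R), φi i (Submodule.Quotient.mk r) = r • x i := fun i r => by
    show Submodule.liftQ I (LinearMap.toSpanSingleton R N (x i)) _ (Submodule.Quotient.mk r) = _
    rw [Submodule.liftQ_apply, LinearMap.toSpanSingleton_apply]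
  have hrange : LinearMap.range φ = Submodule.span R (Set.range x) := by
    apply le_antisymm
    · rintro _ ⟨v, rfl⟩
      rw [hφ]
      refine Submodule.sum_mem _ (fun i _ => ?_)
      obtain ⟨r, hr⟩ := Submodule.Quotient.mk_surjective _ (v i)
      rw [← hr, hφi]
      exact Submodule.smul_mem _ _ (Submodule.subset_span ⟨i, rfl⟩)
    · rw [Submodule.span_le]
      rintro _ ⟨i, rfl⟩
      refine ⟨Pi.single i (Submodule.Quotient.mk 1), ?_⟩
      rw [hφ, Finset.sum_eq_single i]
      · rw [Pi.single_eq_same, hφi, one_smul]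
      · intro j _ hj
        rw [Pi.single_eq_of_ne hj, map_zero]
      · intro h; exact absurd (Finset.mem_univ i) h
  rw [← hrange]
  calc Module.length R (LinearMap.range φ) ≤ Module.length R (ι → R ⧸ I) :=
        Module.length_le_of_surjective φ.rangeRestrict φ.surjective_rangeRestrict
    _ = _ := by rw [Module.length_pi]; simp

lemma length_quot_pow_succ_le (I : Ideal R) (n : ℕ) {ι : Type*} [Fintype ι] (x : ι → R)
    (hx : I ^ n = Submodule.span R (Set.range x)) :
    Module.length R (R ⧸ I ^ (n + 1)) ≤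
      Module.length R (R ⧸ I ^ n) + (Fintype.card ι : ℕ∞) * Module.length R (R ⧸ I) := by
  have hle : I ^ (n + 1) ≤ I ^ n := Ideal.pow_le_pow_right (Nat.le_succ n)
  let g : (R ⧸ I ^ (n + 1)) →ₗ[R] (R ⧸ I ^ n) := Submodule.factor hle
  have hg : Function.Surjective g := Submodule.factor_surjective hle
  have hker : LinearMap.ker g =
      Submodule.span R (Set.range (fun i => (Submodule.Quotient.mk (x i) : R ⧸ I ^ (n + 1)))) := by
    have h1 : LinearMap.ker g = Submodule.map (Submodule.mkQ (I ^ (n + 1))) (I ^ n) := by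
      ext y
      obtain ⟨r, rfl⟩ := Submodule.Quotient.mk_surjective _ y
      rw [LinearMap.mem_ker]
      show Submodule.factor hle (Submodule.mkQ _ r) = 0 ↔ _
      rw [Submodule.factor_mk, Submodule.mkQ_apply, Submodule.Quotient.mk_eq_zero]
      constructor
      · intro hr
        exact ⟨r, hr, rfl⟩
      · rintro ⟨r', hr', h⟩
        rw [Submodule.mkQ_apply, Submodule.Quotient.eq] at h
        have := (I ^ n).sub_mem hr' (hle h)
        simpa using this
    rw [h1, hx, Submodule.map_span, ← Set.range_comp]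
    rfl
  rw [Module.length_eq_add_of_exact (LinearMap.ker g).subtype g (Submodule.subtype_injective _) hg
    (LinearMap.exact_subtype_ker_map g), add_comm, hker]
  gcongr
  apply length_span_le
  intro a ha i
  show a • (Submodule.Quotient.mk (x i) : R ⧸ I ^ (n + 1)) = 0
  rw [← Submodule.Quotient.mk_smul, Submodule.Quotient.mk_eq_zero, pow_succ', smul_eq_mul]
  refine Ideal.mul_mem_mul ha ?_
  rw [hx]
  exact Submodule.subset_span ⟨i, rfl⟩

/-- `I^n` is spanned by the monomials of degree `n` in the generators. -/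
lemma span_pow_eq_span_monomials {d : ℕ} (g : Fin d → R) (n : ℕ) :
    Ideal.span (Set.range g) ^ n = Submodule.span R (Set.range
      (fun m : {m // m ∈ (Finset.univ : Finset (Fin d)).finsuppAntidiag n} =>
        ∏ i, g i ^ (m.1 i))) := by
  rw [Ideal.span_pow_eq_map_homogeneousSubmodule, MvPolynomial.homogeneousSubmodule_eq_finsupp_supported,
    AddMonoidAlgebra.supported_eq_span_single, Submodule.map_span]
  congr 1
  ext y
  simp only [Set.mem_image, Set.mem_ofPred_eq, Set.mem_range, Subtype.exists, Finset.mem_finsuppAntidiag]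
  constructor
  · rintro ⟨_, ⟨m, hm, rfl⟩, rfl⟩
    refine ⟨m, ⟨?_, Finset.subset_univ _⟩, ?_⟩
    · rw [← hm, Finsupp.degree_eq_sum]
    · rw [MvPolynomial.single_eq_monomial, AlgHom.toLinearMap_apply, MvPolynomial.aeval_monomial,
        map_one, one_mul, Finsupp.prod_fintype _ _ (fun i => pow_zero _)]
  · rintro ⟨m, ⟨hm, -⟩, rfl⟩
    refine ⟨_, ⟨m, ?_, rfl⟩, ?_⟩
    · rw [← hm, Finsupp.degree_eq_sum]
    · rw [MvPolynomial.single_eq_monomial, AlgHom.toLinearMap_apply, MvPolynomial.aeval_monomial,
        map_one, one_mul, Finsupp.prod_fintype _ _ (fun i => pow_zero _)]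


lemma length_quot_pow_le {d : ℕ} (g : Fin (d + 1) → R) (n : ℕ) :
    Module.length R (R ⧸ Ideal.span (Set.range g) ^ n) ≤
      ((n + d).choose (d + 1) : ℕ∞) * Module.length R (R ⧸ Ideal.span (Set.range g)) := by
  induction n with
  | zero =>
    have : Subsingleton (R ⧸ Ideal.span (Set.range g) ^ 0) := by
      rw [pow_zero, Ideal.one_eq_top]
      exact Submodule.Quotient.subsingleton_iff.mpr rfl
    rw [Module.length_eq_zero]
    exact zero_le
  | succ n ih =>
    refine (length_quot_pow_succ_le _ n _ (span_pow_eq_span_monomials g n)).trans ?_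
    rw [Fintype.card_coe, Finset.card_finsuppAntidiag_nat_eq_choose, Finset.card_univ,
      Fintype.card_fin]
    have h1 : (d + 1 + n - 1).choose n = (n + d).choose d := by
      rw [show d + 1 + n - 1 = n + d by omega, Nat.choose_symm_add]
    have h2 : (n + 1 + d).choose (d + 1) = (n + d).choose d + (n + d).choose (d + 1) := by
      rw [show n + 1 + d = (n + d) + 1 by omega, Nat.choose_succ_succ]
    rw [h1, h2, Nat.cast_add, add_mul, add_comm]
    gcongr

lemma tendsto_factorial_mul_choose_div (d : ℕ) :
    Tendsto (fun n : ℕ => ((d + 1).factorial : ℝ) * ((n + d).choose (d + 1) : ℝ) / (n : ℝ) ^ (d + 1))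
      atTop (nhds 1) := by
  have h0 : ∀ n : ℕ, ((d + 1).factorial : ℝ) * ((n + d).choose (d + 1) : ℝ) / (n : ℝ) ^ (d + 1) =
      ∏ i ∈ Finset.range (d + 1), (((n : ℝ) + i) / n) := by
    intro n
    have := Nat.ascFactorial_eq_factorial_mul_choose' n (d + 1)
    rw [show n + (d + 1) - 1 = n + d by omega, Nat.ascFactorial_eq_prod_range] at this
    rw [Finset.prod_div_distrib, Finset.prod_const, Finset.card_range]
    congr 1
    have h := congrArg (Nat.cast : ℕ → ℝ) this
    push_cast at h
    rw [← h]
  simp_rw [h0]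
  have : Tendsto (fun n : ℕ => ∏ i ∈ Finset.range (d + 1), (((n : ℝ) + i) / n)) atTop
      (nhds (∏ i ∈ Finset.range (d + 1), (1 : ℝ))) := by
    apply tendsto_finsetProd
    intro i _
    have h1 : Tendsto (fun n : ℕ => (1 : ℝ) + (i : ℝ) / (n : ℝ)) atTop (nhds (1 + 0)) :=
      tendsto_const_nhds.add (tendsto_const_div_atTop_nhds_zero_nat (i : ℝ))
    rw [add_zero] at h1
    refine h1.congr' ?_
    filter_upwards [eventually_gt_atTop 0] with n hn
    have : (n : ℝ) ≠ 0 := by positivity
    field_simp
  simpa using this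


end Helper5.Mult
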